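import Mathlib
import Cfsg.Agent.Lib.Weyl.Tables
import Cfsg.Agent.Lib.Weyl.Chain

/-! Certified parabolic chain for the Weyl group of type B2. -/

namespace CfsgLib.Weyl

open Cfsg.Lie

/-- level 0 of the chain -/
def levB2_0 : Level where
  J := 1
  K := 3
  k := 1
  P := 9
  TT := 0x203000100000000000000000000000000000000000000000000000000000000000000000000000000000000000000000000000000000000000000000000000000000000000000000000000000000000000000000000000000000000000000000000000000000000000000000000000000000000000000000000000000000000000000000000000000000000000000000000000000000000000000000000000000000000000000000000000000000000000000000000000000000000000000000000000000000000000000000000000000000000000000000000000000000000000000000000000000000000000000000000000000000000000000000000000003010200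
  orb := [(0, []), (1, [1]), (2, [0, 1]), (3, [1, 0, 1])]
  deds := [(0, 1, 100), (1, 0, 100), (2, 1, 100), (0, 0, 101), (3, 0, 1)]

theorem levB2_0_ok : levelOK 2 8 tCB2 tAB2 tSB2 tTB2 levB2_0 = true := by decide +kernel

/-- level 1 of the chain -/
def levB2_1 : Level where
  J := 0
  K := 1
  k := 0
  P := 3
  TT := 0x10000000000000000000000000000000000000000000000000000000000000000000000000000000000000000000000000000000000000000000000000000000000000000000000000000000000000000000000000000000000000000000000000000000000000000000000000000000000000000000000000000000000000000000000000000000000000000000000000000000000000000000000000000000000000000000000000000000000000000000000000000000000000000000000000000000000000000000000000000000000000000000000000000000000000000000000000000000000000000000000000000000000000000000000000000000001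
  orb := [(0, []), (1, [0])]
  deds := [(0, 0, 100)]

theorem levB2_1_ok : levelOK 2 8 tCB2 tAB2 tSB2 tTB2 levB2_1 = true := by decide +kernel

/-- the chain -/
def chainB2 : List Level := [levB2_0, levB2_1]

theorem chainB2_link : linkOK (2 ^ 2 - 1) chainB2 = true := by decide +kernel

theorem chainB2_ok : ∀ L ∈ chainB2, levelOK chevB2.rank chevB2.nroots tCB2 tAB2 tSB2 tTB2 L = true := by
  intro L hL
  simp only [chainB2, List.mem_cons, List.not_mem_nil, or_false] at hL
  rcases hL with rfl | rfl
  exacts [levB2_0_ok, levB2_1_ok]

theorem chainB2_coef : chainB2.map levelCoef = [[1, 1, 1, 1], [1, 1]] := by decide +kernel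

end CfsgLib.Weyl
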