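import Mathlib
import Cfsg.Agent.Lib.Weyl.Tables

/-! Coefficient vectors of the roots of the seven Chevalley data on the fundamental roots. -/

namespace CfsgLib.Weyl

open Cfsg.Lie

/-- packed root table -/
def tRG2 : ℕ := 0x888888ab8888889b8888889a888888998888888988888898888888788888888788888877888888768888887588888865
/-- packed squared lengths of the fundamental roots -/
def tDG2 : ℕ := 0x888888b9

/-- packed root table -/
def tRB2 : ℕ := 0x8888889a88888899888888898888889888888878888888878888887788888876
/-- packed squared lengths of the fundamental roots -/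
def tDB2 : ℕ := 0x888888a9

/-- packed root table -/
def tRD4 : ℕ := 0x888899a98888999988888999888898998888889988888889888899988888899888889898888888988888898888889888888878888888878888888878888878788888877888887778888888878888887788887877888887778888777788887767
/-- packed squared lengths of the fundamental roots -/
def tDD4 : ℕ := 0x88889999

/-- packed root table -/
def tRF4 : ℕ := 0x8888abca88889bca88889aca88889aba88889aaa888899aa888889aa88889ab988889aa9888899a9888889a98888999988888999888888998888888988889aa8888899a8888889a8888899988888899888888898888899888888898888889888888878888888878888887788888888788888877888887778888887688888776888887668888888878888887788888777888877778888876788887767888876678888765788888766888877668888766688887656888876468888754688886546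
/-- packed squared lengths of the fundamental roots -/
def tDF4 : ℕ := 0x8888aa99

/-- packed root table -/
def tRE6 : ℕ := 0x889abaa9889aba99889aaa998899aa998889aa99889aa9998899a9998889a9998899999988899999888899998899998988899989888899898888898988888889889aa9988899a9988889a9988899999888899998888899988899989888899898888898988888889888999988888999888888998888888988889998888889988888889888889988888889888888988888887888888887888888778888888878888887788888777888888887888888778888877788887777888888887888887878888778788877787888887778888777788877777888876778887767788876677888888887888887878888778788877787887777878888777788877777887777778887677788776777887667778887667788776677887666778876567788765667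
/-- packed squared lengths of the fundamental roots -/
def tDE6 : ℕ := 0x88999999

/-- packed root table -/
def tRE7 : ℕ := 0x89abcbaa89abcba989abcaa989abbaa989aabaa9899abaa9889abaa989abba9989aaba99899aba99889aba9989aaaa99899aaa99889aaa998999aa998899aa998889aa9989aaa999899aa999889aa9998999a9998899a9998889a9998999999988999999888999998888999989999989889999898889998988889989888889898888888989aaa998899aa998889aa9988999a9988899a9988889a998899999988899999888899998888899988999989888999898888998988888989888888898899999888899998888899988888899888888898889999888889998888889988888889888899988888899888888898888899888888898888889888888878888888878888887788888888788888877888887778888888878888887788888777888877778888888878888887788888777888877778887777788888888788888787888877878887778788777787888887778888777788877777887777778888767788877677887776778887667788776677887666778888888878888878788887787888777878877778787777787888877778887777788777777877777778887677788776777877767778876677787766777876667778887667788776677877766778876667787766677876666778876567787765677876656778765567788765667877656678766566787655667876546678765456787654566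
/-- packed squared lengths of the fundamental roots -/
def tDE7 : ℕ := 0x89999999

/-- packed root table -/
def tRE8 : ℕ := 0xabcdecba9bcdecba9acdecba9abdecba9abcecba9abcdcba9abcdbba9abcdcaa9abcdbaa9abccbaa9abbcbaa9aabcbaa99abcbaa89abcbaa9abcdbb99abcdba99abccba99abbcba99aabcba999abcba989abcba99abccaa99abbcaa99aabcaa999abcaa989abcaa99abbbaa99aabbaa999abbaa989abbaa99aaabaa999aabaa989aabaa9999abaa9899abaa9889abaa99abbba999aabba9999abba9989abba999aaaba9999aaba9989aaba99999aba99899aba99889aba999aaaaa9999aaaa9989aaaa99999aaa99899aaa99889aaa999999aa998999aa998899aa998889aa999aaaa99999aaa99989aaa999999aa999899aa999889aa9999999a9998999a9998899a9998889a9999999999989999999889999998889999988889999999999898999998988999989888999898888998988888989888888899aaaa99899aaa99889aaa998999aa998899aa998889aa9989999a9988999a9988899a9988889a99899999998899999988899999888899998888899989999989889999898889998988889989888889898888888989999998889999988889999888889998888889988888889889999988889999888889998888889988888889888999988888999888888998888888988889998888889988888889888889988888889888888988888887888888887888888778888888878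88888778888877788888888788888877888887778888777788888888788888877888887778888777788877777888888887888888778888877788887777888777778877777788888888788888787888877878887778788777787877777878888877788887777888777778877777787777777888876778887767788777677877776778887667788776677877766778876667787766677876666778888888878888878788887787888777878877778787777787777777878888777788877777887777778777777777777777888767778877677787776777777767778876677787766777777667778766677777666777766667778887667788776677877766777777667788766677877666777776667787666677776666777666667788765677877656777776567787665677776656777666567787655677776556777665567776555677887656678776566777765667876656677766566776665667876556677765566776655667765556678765466777654667766546677655466776544667876545677765456776654567765545677654456776543567765435578765456677654566766545667655456676544566765435667654346676543556765434567654245676532456764324567543245665432456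
/-- packed squared lengths of the fundamental roots -/
def tDE8 : ℕ := 0x99999999

/-- the root table, selected by the number of roots -/
def rtTab (N : ℕ) : ℕ :=
  if N = 12 then tRG2 else if N = 8 then tRB2 else if N = 24 then tRD4 else if N = 48 then tRF4 else if N = 72 then tRE6 else if N = 126 then tRE7 else tRE8

/-- the length table, selected by the number of roots -/
def dTab (N : ℕ) : ℕ :=
  if N = 12 then tDG2 else if N = 8 then tDB2 else if N = 24 then tDD4 else if N = 48 then tDF4 else if N = 72 then tDE6 else if N = 126 then tDE7 else tDE8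

/-- coefficient of the `k`-th fundamental root in the root `r` -/
def rt (D : ChevalleyDatum) (r k : ℕ) : ℤ := coT (rtTab D.nroots) r k

/-- half the squared length of the `i`-th fundamental root (short roots have `1`) -/
def dsym (D : ChevalleyDatum) (i : ℕ) : ℤ := coT (dTab D.nroots) 0 i

/-- a linear functional that is increasing along the list of roots -/
def key (D : ChevalleyDatum) (r : ℕ) : ℤ := ∑ k ∈ Finset.range D.rank, rt D r k * 16 ^ (7 - k)

/-- Consistency of the root vectors with the tables of the datum. -/
structure RtOK (D : ChevalleyDatum) : Prop where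
  root : RootOK D
  d_pos : ∀ i < D.rank, 0 < dsym D i
  A_self : ∀ i < D.rank, D.cartan i (D.simple i) = 2
  d_symm : ∀ i < D.rank, ∀ j < D.rank, dsym D i * D.cartan i (D.simple j) = dsym D j * D.cartan j (D.simple i)
  rt_simple : ∀ i < D.rank, ∀ k < D.rank, rt D (D.simple i) k = if k = i then 1 else 0
  rt_neg : ∀ r < D.nroots, ∀ k < D.rank, rt D (D.neg r) k = - rt D r k
  sign_eq : ∀ r < D.nroots, ∀ k < D.rank, (rt D r k).sign = (co D r k).sign
  key_succ : ∀ r, r + 1 < D.nroots → key D r < key D (r + 1)
  key_pos : ∀ r < D.nroots, D.nroots ≤ 2 * r → 0 < key D r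
  descent : ∀ r < D.nroots, D.nroots ≤ 2 * r → ∃ i < D.rank, 0 < D.cartan i r
  cartan_eq : ∀ i < D.rank, ∀ r < D.nroots,
    D.cartan i r = ∑ k ∈ Finset.range D.rank, D.cartan i (D.simple k) * rt D r k
  rt_refl : ∀ i < D.rank, ∀ r < D.nroots, ∀ k < D.rank,
    rt D (D.reflectRoot i r) k = rt D r k - if k = i then D.cartan i r else 0
  reduced : ∀ i < D.rank, ∀ r < D.nroots,
    (r = D.simple i ∨ r = D.neg (D.simple i)) ∨ ∃ j < D.rank, j ≠ i ∧ rt D r j ≠ 0
  chain : ∀ r < D.nroots, ∀ e ∈ (D.chain.getD r #[]).toList, ∀ (i : ℕ) (km : ℕ × ℤ), e.2.toList[i]? = some km →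
    e.1 < D.nroots ∧ km.1 < D.nroots ∧ ∀ j < D.rank, rt D km.1 j = ((i + 1 : ℕ) : ℤ) * rt D r j + rt D e.1 j

/-- the functional `key` on the packed table -/
def keyT (n R r : ℕ) : ℤ := sumLt n fun k => coT R r k * 16 ^ (7 - k)

/-- the facts of `RtOK` on the packed tables -/
def rtChk (n N C A S T R L : ℕ) : Bool :=
  (allLt n fun i => decide (0 < coT L 0 i) && coT A (actT S 0 i) i == 2 &&
    (allLt n fun j => coT L 0 i * coT A (actT S 0 j) i == coT L 0 j * coT A (actT S 0 i) j) &&
    allLt n fun k => coT R (actT S 0 i) k == if k = i then 1 else 0) &&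
  (allLt N fun r => (allLt n fun k => coT R (N - 1 - r) k == - coT R r k && (coT R r k).sign == (coT C r k).sign) &&
    (Nat.ble N (r + 1) || decide (keyT n R r < keyT n R (r + 1))) &&
    (Nat.blt (2 * r) N || (decide (0 < keyT n R r) && !(allLt n fun i => decide (coT A r i ≤ 0))))) &&
  (allLt n fun i => allLt N fun r => coT A r i == sumLt n (fun k => coT A (actT S 0 k) i * coT R r k) &&
    (allLt n fun k => coT R (actT T i r) k == coT R r k - if k = i then coT A r i else 0) &&
    (Nat.beq r (actT S 0 i) || Nat.beq r (N - 1 - actT S 0 i) ||
      !(allLt n fun j => Nat.beq j i || coT R r j == 0)))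

/-- the chain table lists the roots `i r + s` -/
def chainChk (D : ChevalleyDatum) (R : ℕ) : Bool :=
  D.chain.toList.zipIdx.all fun row => row.1.toList.all fun e => Nat.blt e.1 D.nroots &&
    e.2.toList.zipIdx.all fun km =>
    Nat.blt km.1.1 D.nroots && allLt D.rank fun j =>
      coT R km.1.1 j == ((km.2 + 1 : ℕ) : ℤ) * coT R row.2 j + coT R e.1 j

theorem rtOK_of_chk {D : ChevalleyDatum} (h : RootOK D) {C A S T R L : ℕ} (ht : TablesOK D C A S T)
    (hR : rtTab D.nroots = R) (hL : dTab D.nroots = L)
    (h1 : rtChk D.rank D.nroots C A S T R L = true) (h2 : chainChk D R = true) : RtOK D := by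
  have hrt : ∀ r k, rt D r k = coT R r k := fun r k => by rw [rt, hR]
  have hd : ∀ i, dsym D i = coT L 0 i := fun i => by rw [dsym, hL]
  have hkey : ∀ r, key D r = keyT D.rank R r := fun r => by
    rw [key, keyT, sumLt_eq]; simp only [hrt]
  have hlt : ∀ i < D.rank, actT S 0 i < D.nroots := fun i hi => by
    rw [← ht.simple_eq i hi]; exact h.simple_lt i hi
  have hA : ∀ i < D.rank, ∀ j < D.rank, D.cartan i (D.simple j) = coT A (actT S 0 j) i := fun i hi j hj => by
    rw [ht.simple_eq j hj, ht.cartan_eq i hi _ (hlt j hj)]
  unfold rtChk at h1
  simp only [Bool.and_eq_true, allLt_iff, Nat.ble_eq, Nat.beq_eq, Nat.blt_eq, beq_iff_eq, Bool.or_eq_true,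
    Bool.not_eq_true', decide_eq_true_eq] at h1
  obtain ⟨⟨hS, hN⟩, hT⟩ := h1
  refine ⟨h, fun i hi => ?_, fun i hi => ?_, fun i hi j hj => ?_, fun i hi k hk => ?_, fun r hr k hk => ?_,
    fun r hr k hk => ?_, fun r hr => ?_, fun r hr hp => ?_, fun r hr hp => ?_, fun i hi r hr => ?_,
    fun i hi r hr k hk => ?_, fun i hi r hr => ?_, fun r hr e he i km hkm => ?_⟩
  · rw [hd]; exact (hS i hi).1.1.1
  · rw [hA i hi i hi]; exact (hS i hi).1.1.2
  · rw [hd, hd, hA i hi j hj, hA j hj i hi]; exact (hS i hi).1.2 j hj
  · rw [hrt, ht.simple_eq i hi]; exact (hS i hi).2 k hk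
  · rw [hrt, hrt, h.neg_eq r hr]; exact ((hN r hr).1.1 k hk).1
  · rw [hrt, ht.co_eq r hr k hk]; exact ((hN r hr).1.1 k hk).2
  · rw [hkey, hkey]
    rcases (hN r (by omega)).1.2 with h0 | h0
    · omega
    · exact h0
  · rw [hkey]
    rcases (hN r hr).2 with h0 | h0
    · omega
    · exact h0.1
  · rcases (hN r hr).2 with h0 | h0
    · omega
    · have := h0.2
      rw [← Bool.not_eq_true, allLt_iff] at this
      by_contra hc
      push Not at hc
      exact this fun i hi => by rw [← ht.cartan_eq i hi r hr, decide_eq_true_eq]; exact hc i hi
  · rw [ht.cartan_eq i hi r hr, (hT i hi r hr).1.1, sumLt_eq]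
    exact Finset.sum_congr rfl fun k hk => by rw [hA i hi k (Finset.mem_range.1 hk), hrt]
  · rw [hrt, hrt, ht.refl_eq hlt i hi r hr, ht.cartan_eq i hi r hr]; exact (hT i hi r hr).1.2 k hk
  · rcases (hT i hi r hr).2 with (h0 | h0) | h0
    · exact Or.inl (Or.inl (by rw [ht.simple_eq i hi]; exact h0))
    · exact Or.inl (Or.inr (by rw [ht.simple_eq i hi, h.neg_eq _ (hlt i hi)]; exact h0))
    · rw [← Bool.not_eq_true, allLt_iff] at h0
      refine Or.inr ?_
      by_contra hc
      push Not at hc
      refine h0 fun j hj => ?_
      by_cases hji : j = i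
      · simp [hji]
      · rw [← hrt, hc j hj hji]; simp
  · unfold chainChk at h2
    simp only [List.all_eq_true, Bool.and_eq_true, Nat.blt_eq, allLt_iff, beq_iff_eq] at h2
    by_cases hsz : r < D.chain.size
    · have hrow : (D.chain.getD r #[], r) ∈ D.chain.toList.zipIdx := by
        rw [List.mem_zipIdx_iff_getElem?]
        simp [hsz]
      have h3 := h2 _ hrow e he
      have h4 := h3.2 (km, i) (List.mem_zipIdx_iff_getElem?.2 hkm)
      exact ⟨h3.1, h4.1, fun j hj => by rw [hrt, hrt, hrt]; exact h4.2 j hj⟩
    · simp [Array.getD, hsz] at he

theorem rtChkG2 : rtChk chevG2.rank chevG2.nroots tCG2 tAG2 tSG2 tTG2 tRG2 tDG2 = true := by decide +kernel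
theorem chainChkG2 : chainChk chevG2 tRG2 = true := by decide +kernel
theorem rtOKG2 : RtOK chevG2 := rtOK_of_chk rootOKG2 tablesOKG2 rfl rfl rtChkG2 chainChkG2

theorem rtChkB2 : rtChk chevB2.rank chevB2.nroots tCB2 tAB2 tSB2 tTB2 tRB2 tDB2 = true := by decide +kernel
theorem chainChkB2 : chainChk chevB2 tRB2 = true := by decide +kernel
theorem rtOKB2 : RtOK chevB2 := rtOK_of_chk rootOKB2 tablesOKB2 rfl rfl rtChkB2 chainChkB2

theorem rtChkD4 : rtChk chevD4.rank chevD4.nroots tCD4 tAD4 tSD4 tTD4 tRD4 tDD4 = true := by decide +kernel
theorem chainChkD4 : chainChk chevD4 tRD4 = true := by decide +kernel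
theorem rtOKD4 : RtOK chevD4 := rtOK_of_chk rootOKD4 tablesOKD4 rfl rfl rtChkD4 chainChkD4

theorem rtChkF4 : rtChk chevF4.rank chevF4.nroots tCF4 tAF4 tSF4 tTF4 tRF4 tDF4 = true := by decide +kernel
theorem chainChkF4 : chainChk chevF4 tRF4 = true := by decide +kernel
theorem rtOKF4 : RtOK chevF4 := rtOK_of_chk rootOKF4 tablesOKF4 rfl rfl rtChkF4 chainChkF4

theorem rtChkE6 : rtChk chevE6.rank chevE6.nroots tCE6 tAE6 tSE6 tTE6 tRE6 tDE6 = true := by decide +kernel
theorem chainChkE6 : chainChk chevE6 tRE6 = true := by decide +kernel
theorem rtOKE6 : RtOK chevE6 := rtOK_of_chk rootOKE6 tablesOKE6 rfl rfl rtChkE6 chainChkE6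

theorem rtChkE7 : rtChk chevE7.rank chevE7.nroots tCE7 tAE7 tSE7 tTE7 tRE7 tDE7 = true := by decide +kernel
theorem chainChkE7 : chainChk chevE7 tRE7 = true := by decide +kernel
theorem rtOKE7 : RtOK chevE7 := rtOK_of_chk rootOKE7 tablesOKE7 rfl rfl rtChkE7 chainChkE7

theorem rtChkE8 : rtChk chevE8.rank chevE8.nroots tCE8 tAE8 tSE8 tTE8 tRE8 tDE8 = true := by decide +kernel
theorem chainChkE8 : chainChk chevE8 tRE8 = true := by decide +kernel
theorem rtOKE8 : RtOK chevE8 := rtOK_of_chk rootOKE8 tablesOKE8 rfl rfl rtChkE8 chainChkE8

theorem rtOK_of_mem {D : ChevalleyDatum}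
    (hD : D ∈ [chevG2, chevB2, chevD4, chevF4, chevE6, chevE7, chevE8]) : RtOK D := by
  simp only [List.mem_cons, List.not_mem_nil, or_false] at hD
  rcases hD with rfl | rfl | rfl | rfl | rfl | rfl | rfl
  exacts [rtOKG2, rtOKB2, rtOKD4, rtOKF4, rtOKE6, rtOKE7, rtOKE8]

end CfsgLib.Weyl
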